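import Mathlib.RepresentationTheory.Homological.GroupCohomology.LowDegree
import Mathlib.RepresentationTheory.Homological.GroupCohomology.Functoriality
import Mathlib.GroupTheory.OrderOfElement

/-!
# First cohomology of a finite cyclic group, evaluated at a generator
-/

set_option autoImplicit false

noncomputable section

universe u

open CategoryTheory groupCohomology

namespace Groth.Agent.ASCover.CyclicH1

variable {k G : Type u} [CommRing k] [Group G]
  {A B : Type u} [AddCommGroup A] [Module k A] [AddCommGroup B] [Module k B]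
  (ρ : Representation k G A) (g : G)

/-- partial norm `x ↦ ∑_{i < l} g^i x` -/
def S (l : ℕ) : A →ₗ[k] A := ∑ i ∈ Finset.range l, (ρ g) ^ i

theorem S_apply (l : ℕ) (x : A) : S ρ g l x = ∑ i ∈ Finset.range l, ρ (g ^ i) x := by
  simp [S, map_pow]

theorem S_zero (x : A) : S ρ g 0 x = 0 := by simp [S]

theorem S_one (x : A) : S ρ g 1 x = x := by simp [S_apply]

theorem S_add (l m : ℕ) (x : A) : S ρ g (l + m) x = S ρ g l x + ρ (g ^ l) (S ρ g m x) := by
  simp only [S_apply, Finset.sum_range_add, map_sum, pow_add, map_mul, Module.End.mul_apply]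

theorem cocycle_pow (f : cocycles₁ (Rep.of ρ)) (l : ℕ) : f (g ^ l) = S ρ g l (f g) := by
  induction l with
  | zero => simp [S_zero, cocycles₁_map_one f]
  | succ l ih =>
    rw [S_add, ← ih, S_one, pow_succ, (mem_cocycles₁_iff f).1 f.2 (g ^ l) g, add_comm]

/-- evaluation at the generator -/
def ev : cocycles₁ (Rep.of ρ) →ₗ[k] A where
  toFun f := f g
  map_add' _ _ := rfl
  map_smul' _ _ := rfl

variable [Finite G] (hg : ∀ x : G, x ∈ Subgroup.zpowers g)
include hg

theorem exists_pow (h : G) : ∃ l : ℕ, g ^ l = h :=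
  (Submonoid.mem_powers_iff h g).1 ((mem_powers_iff_mem_zpowers).2 (hg h))

theorem ev_injective : Function.Injective (ev ρ g) := by
  intro f f' he
  refine cocycles₁_ext fun h => ?_
  obtain ⟨l, rfl⟩ := exists_pow g hg h
  rw [cocycle_pow, cocycle_pow]
  exact congrArg _ he

omit hg in
theorem S_card_ev (f : cocycles₁ (Rep.of ρ)) : S ρ g (orderOf g) (ev ρ g f) = 0 := by
  change S ρ g (orderOf g) (f g) = 0
  rw [← cocycle_pow, pow_orderOf_eq_one, cocycles₁_map_one f]

omit hg in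
theorem S_periodic {x : A} (hx : S ρ g (orderOf g) x = 0) (l : ℕ) : S ρ g l x = S ρ g (l % orderOf g) x := by
  have h : ∀ q, S ρ g (orderOf g * q) x = 0 := fun q => by
    induction q with
    | zero => simp [S_zero]
    | succ q ih => rw [Nat.mul_succ, S_add, ih, hx, map_zero, add_zero]
  conv_lhs => rw [← Nat.div_add_mod l (orderOf g), S_add, h, zero_add, pow_mul, pow_orderOf_eq_one, one_pow,
    map_one, Module.End.one_apply]

theorem ev_range : LinearMap.range (ev ρ g) = LinearMap.ker (S ρ g (orderOf g)) := by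
  refine le_antisymm ?_ fun x hx => ?_
  · rintro _ ⟨f, rfl⟩
    exact LinearMap.mem_ker.2 (S_card_ev ρ g f)
  rw [LinearMap.mem_ker] at hx
  choose e he using exists_pow g hg
  have hwd : ∀ l m, g ^ l = g ^ m → S ρ g l x = S ρ g m x := fun l m h => by
    rw [S_periodic ρ g hx l, S_periodic ρ g hx m, (pow_eq_pow_iff_modEq.1 h : l % orderOf g = m % orderOf g)]
  refine ⟨⟨fun h => S ρ g (e h) x, (mem_cocycles₁_iff _).2 fun a b => ?_⟩, ?_⟩
  · change S ρ g (e (a * b)) x = ρ a (S ρ g (e b) x) + S ρ g (e a) x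
    rw [hwd (e (a * b)) (e a + e b) (by rw [he, pow_add, he, he]), S_add, he a, add_comm]
  · change S ρ g (e g) x = x
    rw [hwd (e g) 1 (by rw [he, pow_one]), S_one]

theorem H1π_eq_zero (f : cocycles₁ (Rep.of ρ)) :
    H1π (Rep.of ρ) f = 0 ↔ ev ρ g f ∈ LinearMap.range (ρ g - 1) := by
  rw [H1π_eq_zero_iff, coboundaries₁, LinearMap.mem_range, LinearMap.mem_range]
  constructor
  · rintro ⟨y, hy⟩
    refine ⟨(y : A), ?_⟩
    have h : ρ g (y : A) - (y : A) = f g := congrFun hy g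
    rw [LinearMap.sub_apply, Module.End.one_apply, h]
    rfl
  · rintro ⟨y, hy⟩
    rw [LinearMap.sub_apply, Module.End.one_apply] at hy
    let y' : (Rep.of ρ).V := y
    let f' : cocycles₁ (Rep.of ρ) := ⟨(d₀₁ (Rep.of ρ)).hom y', d₀₁_apply_mem_cocycles₁ y'⟩
    refine ⟨y', ?_⟩
    have h' : ev ρ g f' = ev ρ g f := hy
    have h : f' = f := ev_injective ρ g hg h'
    exact congrArg (fun t : cocycles₁ (Rep.of ρ) => (t : G → A)) h

variable {V : Type u} [AddCommGroup V] [Module k V]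

/-- the map to `H¹` attached to a family of norm zero elements -/
def toH1 (L : V →ₗ[k] A) (hL : ∀ v, S ρ g (orderOf g) (L v) = 0) : V →ₗ[k] groupCohomology.H1 (Rep.of ρ) :=
  (H1π (Rep.of ρ)).hom ∘ₗ (LinearEquiv.ofInjective (ev ρ g) (ev_injective ρ g hg)).symm.toLinearMap ∘ₗ
    L.codRestrict _ fun v => by rw [ev_range ρ g hg]; exact LinearMap.mem_ker.2 (hL v)

theorem toH1_exists (L : V →ₗ[k] A) (hL : ∀ v, S ρ g (orderOf g) (L v) = 0) (v : V) :
    ∃ f, H1π (Rep.of ρ) f = toH1 ρ g hg L hL v ∧ ev ρ g f = L v :=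
  ⟨_, rfl, congrArg Subtype.val ((LinearEquiv.ofInjective (ev ρ g) (ev_injective ρ g hg)).apply_symm_apply
    ⟨L v, by rw [ev_range ρ g hg]; exact LinearMap.mem_ker.2 (hL v)⟩)⟩

theorem toH1_eq_iff (L : V →ₗ[k] A) (hL : ∀ v, S ρ g (orderOf g) (L v) = 0) (v : V) (f : cocycles₁ (Rep.of ρ)) :
    H1π (Rep.of ρ) f = toH1 ρ g hg L hL v ↔ ev ρ g f - L v ∈ LinearMap.range (ρ g - 1) := by
  obtain ⟨f', h1, h2⟩ := toH1_exists ρ g hg L hL v
  rw [← h1, ← h2, ← sub_eq_zero, ← map_sub, H1π_eq_zero ρ g hg, map_sub]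

theorem toH1_injective (L : V →ₗ[k] A) (hL : ∀ v, S ρ g (orderOf g) (L v) = 0)
    (h : ∀ v, L v ∈ LinearMap.range (ρ g - 1) → v = 0) : Function.Injective (toH1 ρ g hg L hL) := by
  refine (injective_iff_map_eq_zero _).2 fun v hv => h v ?_
  have := (toH1_eq_iff ρ g hg L hL v 0).1 (by rw [map_zero, hv])
  rw [map_zero, zero_sub, neg_mem_iff] at this
  exact this

theorem toH1_surjective (L : V →ₗ[k] A) (hL : ∀ v, S ρ g (orderOf g) (L v) = 0)
    (h : ∀ x, S ρ g (orderOf g) x = 0 → ∃ v, x - L v ∈ LinearMap.range (ρ g - 1)) :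
    Function.Surjective (toH1 ρ g hg L hL) := by
  intro z
  induction z using groupCohomology.H1_induction_on with
  | h f =>
    obtain ⟨v, hv⟩ := h _ (S_card_ev ρ g f)
    exact ⟨v, ((toH1_eq_iff ρ g hg L hL v f).2 hv).symm⟩

/-- image of the map induced on `H¹` -/
theorem range_map (η : Representation k G B) (φ : Rep.of ρ ⟶ Rep.of η)
    {W : Type u} [AddCommGroup W] [Module k W] (L : V →ₗ[k] A) (hL : ∀ v, S ρ g (orderOf g) (L v) = 0)
    (hLs : ∀ x, S ρ g (orderOf g) x = 0 → ∃ v, x - L v ∈ LinearMap.range (ρ g - 1))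
    (M : W →ₗ[k] B) (hM : ∀ w, S η g (orderOf g) (M w) = 0)
    (h1 : ∀ v, ∃ w, φ.hom (L v) - M w ∈ LinearMap.range (η g - 1))
    (h2 : ∀ w, ∃ v, φ.hom (L v) - M w ∈ LinearMap.range (η g - 1)) :
    LinearMap.range ((groupCohomology.functor k G 1).map φ).hom = LinearMap.range (toH1 η g hg M hM) := by
  let Φ : groupCohomology.H1 (Rep.of ρ) →ₗ[k] groupCohomology.H1 (Rep.of η) :=
    (groupCohomology.map (MonoidHom.id G) φ 1).hom
  suffices hΦ : LinearMap.range Φ = LinearMap.range (toH1 η g hg M hM) from hΦ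
  have key : ∀ v, ∃ f : cocycles₁ (Rep.of η), H1π (Rep.of η) f =
      Φ (toH1 ρ g hg L hL v) ∧ ev η g f = φ.hom (L v) := by
    intro v
    obtain ⟨f, hf1, hf2⟩ := toH1_exists ρ g hg L hL v
    refine ⟨mapCocycles₁ (MonoidHom.id G) φ f, ?_, ?_⟩
    · have h := ConcreteCategory.congr_hom (H1π_comp_map (A := Rep.of ρ) (B := Rep.of η) (MonoidHom.id G) φ) f
      rw [ConcreteCategory.comp_apply, ConcreteCategory.comp_apply, hf1] at h
      exact h.symm
    · rw [← hf2]; rfl
  refine le_antisymm ?_ ?_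
  · rintro _ ⟨z, rfl⟩
    obtain ⟨v, rfl⟩ := toH1_surjective ρ g hg L hL hLs z
    obtain ⟨w, hw⟩ := h1 v
    obtain ⟨f, hf1, hf2⟩ := key v
    exact ⟨w, (((toH1_eq_iff η g hg M hM w f).2 (hf2 ▸ hw)).symm.trans hf1)⟩
  · rintro _ ⟨w, rfl⟩
    obtain ⟨v, hv⟩ := h2 w
    obtain ⟨f, hf1, hf2⟩ := key v
    exact ⟨_, (hf1.symm.trans ((toH1_eq_iff η g hg M hM w f).2 (hf2 ▸ hv)))⟩

end Groth.Agent.ASCover.CyclicH1
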