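import Mathlib.RingTheory.PowerSeries.Substitution
import Mathlib.RingTheory.PowerSeries.Inverse
import Mathlib.Algebra.CharP.Algebra
import Mathlib.Algebra.CharP.Lemmas
import Mathlib.FieldTheory.IsAlgClosed.Basic
import Mathlib.FieldTheory.Finite.Basic
import Mathlib.Algebra.Ring.GeomSum
import Mathlib.RingTheory.Ideal.Quotient.Operations
import Groth.Agent.ASCover.CyclicH1

/-!
# The local twisted Artin–Schreier action on `k⟦t⟧`
-/

set_option autoImplicit false

noncomputable section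

universe u

open PowerSeries

namespace Groth.Agent.ASCover.Local

variable {k : Type u} [Field k]

/-- the standing hypotheses -/
structure Setup (p n : ℕ) (u : k⟦X⟧) : Prop where
  prime : p.Prime
  char : CharP k p
  npos : 0 < n
  hpn : ¬ p ∣ n
  hu1 : constantCoeff u = 1
  hun : u ^ n * (1 + X ^ n) = 1

variable {p n : ℕ} {u : k⟦X⟧}

namespace Setup

variable (S : Setup p n u)
include S

theorem nk : (n : k) ≠ 0 := fun h => S.hpn ((@CharP.cast_eq_zero_iff k _ p S.char n).1 h)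

theorem hasSubst : HasSubst (X * u) := HasSubst.of_constantCoeff_zero' (by simp)

theorem isUnit : IsUnit u := isUnit_iff_constantCoeff.2 (by rw [S.hu1]; exact isUnit_one)

/-- `u` as a unit -/
def U : k⟦X⟧ˣ := S.isUnit.unit

theorem U_val : (S.U : k⟦X⟧) = u := IsUnit.unit_spec _

theorem U_eq (hu : IsUnit u) : hu.unit = S.U := Units.ext (by rw [IsUnit.unit_spec, U_val])

/-- the substitution `t ↦ t u` -/
def σ : k⟦X⟧ →ₐ[k] k⟦X⟧ := substAlgHom S.hasSubst

theorem σ_eq (f : k⟦X⟧) : S.σ f = PowerSeries.subst (X * u) f := by rw [σ, ← coe_substAlgHom S.hasSubst]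

theorem σ_X : S.σ X = X * u := by rw [σ_eq, subst_X S.hasSubst]

/-- the twisted action `h ↦ u ^ b * h (t u)` -/
def T (b : ℤ) : k⟦X⟧ →ₗ[k] k⟦X⟧ := LinearMap.mulLeft k ((S.U ^ b : k⟦X⟧ˣ) : k⟦X⟧) ∘ₗ S.σ.toLinearMap

theorem T_apply (b : ℤ) (h : k⟦X⟧) : S.T b h = ((S.U ^ b : k⟦X⟧ˣ) : k⟦X⟧) * S.σ h := rfl

theorem T_mul (b c : ℤ) (x y : k⟦X⟧) : S.T (b + c) (x * y) = S.T b x * S.T c y := by
  rw [T_apply, T_apply, T_apply, map_mul, zpow_add, Units.val_mul]; ring

theorem U_zpow_natCast (b : ℤ) (j : ℕ) :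
    ((S.U ^ (b + j) : k⟦X⟧ˣ) : k⟦X⟧) = ((S.U ^ b : k⟦X⟧ˣ) : k⟦X⟧) * u ^ j := by
  rw [zpow_add, Units.val_mul, zpow_natCast, Units.val_pow_eq_pow_val, U_val]

theorem T_Xpow (b : ℤ) (j : ℕ) (h : k⟦X⟧) : S.T b (X ^ j * h) = X ^ j * S.T (b + j) h := by
  rw [T_apply, T_apply, map_mul, map_pow, σ_X, U_zpow_natCast, mul_pow]; ring

theorem u_sub_one_dvd : ∃ w, u - 1 = X ^ n * w := by
  have hG : IsUnit (∑ i ∈ Finset.range n, u ^ i) := by
    rw [isUnit_iff_constantCoeff, isUnit_iff_ne_zero]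
    simpa [S.hu1] using S.nk
  obtain ⟨G, hG'⟩ := hG
  refine ⟨-(u ^ n) * (↑G⁻¹ : k⟦X⟧), ?_⟩
  have h1 : (u - 1) * (↑G : k⟦X⟧) = X ^ n * -(u ^ n) := by
    rw [hG', mul_comm, geom_sum_mul]; linear_combination S.hun
  rw [← mul_assoc, ← h1, Units.mul_inv_cancel_right]

theorem σ_sub_dvd : ∀ (i : ℕ), i ≤ n + 1 → ∀ f : k⟦X⟧, X ^ i ∣ S.σ f - f := by
  obtain ⟨w, hw⟩ := S.u_sub_one_dvd
  intro i
  induction i with
  | zero => simp
  | succ i ih =>
    intro hi f
    obtain ⟨f₁, hf₁⟩ : X ∣ f - C (constantCoeff f) := X_dvd_iff.2 (by simp)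
    have hf : f = C (constantCoeff f) + X * f₁ := by rw [← hf₁]; ring
    have e : S.σ f - f = X * ((u - 1) * S.σ f₁ + (S.σ f₁ - f₁)) := by
      conv_lhs => rw [hf, map_add, map_mul, S.σ_X, show S.σ (C (constantCoeff f)) = C (constantCoeff f) from S.σ.commutes _]
      ring
    rw [e, pow_succ']
    exact mul_dvd_mul_left _ (dvd_add (Dvd.dvd.mul_right ((pow_dvd_pow _ (by omega)).trans ⟨w, hw⟩) _) (ih (by omega) f₁))

theorem zpow_sub_one_dvd (b : ℤ) : X ^ n ∣ ((S.U ^ b : k⟦X⟧ˣ) : k⟦X⟧) - 1 := by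
  let q : k⟦X⟧ →+* k⟦X⟧ ⧸ Ideal.span {(X : k⟦X⟧) ^ n} := Ideal.Quotient.mk _
  have hq : Units.map q.toMonoidHom S.U = 1 := Units.ext (by
    obtain ⟨w, hw⟩ := S.u_sub_one_dvd
    have h1 : q u = q 1 := (Ideal.Quotient.mk_eq_mk_iff_sub_mem _ _).2 (Ideal.mem_span_singleton.2 ⟨w, hw⟩)
    simpa [U_val] using h1)
  have := congrArg Units.val (show Units.map q.toMonoidHom (S.U ^ b) = 1 by rw [map_zpow, hq, one_zpow])
  rw [← Ideal.mem_span_singleton, ← Ideal.Quotient.mk_eq_mk_iff_sub_mem, map_one]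
  exact this

theorem coeff_n_T_sub (b : ℤ) (w : k⟦X⟧) :
    (n : k) * coeff n (S.T b w - w) + (b : k) * constantCoeff w = 0 := by
  let QQ := k⟦X⟧ ⧸ Ideal.span {(X : k⟦X⟧) ^ (n + 1)}
  let q : k⟦X⟧ →+* QQ := Ideal.Quotient.mk _
  obtain ⟨d, hd⟩ := S.u_sub_one_dvd
  let ε : QQ := q (X ^ n * d)
  have hq0 : ∀ i, n + 1 ≤ i → q (X ^ i) = 0 := fun i hi =>
    Ideal.Quotient.eq_zero_iff_mem.2 (Ideal.mem_span_singleton.2 (pow_dvd_pow _ hi))
  have hεε : ε * ε = 0 := by
    rw [← map_mul, show X ^ n * d * (X ^ n * d) = X ^ (n + n) * (d * d) by ring, map_mul,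
      hq0 _ (by have := S.npos; omega), zero_mul]
  have hqu : q u = 1 + ε := by rw [← map_one q, ← map_add, ← hd, add_sub_cancel]
  have hU : ((Units.map q.toMonoidHom S.U : QQˣ) : QQ) = 1 + ε := by
    change q (S.U : k⟦X⟧) = _; rw [U_val, hqu]
  have hzp : ∀ i : ℤ, ((Units.map q.toMonoidHom S.U ^ i : QQˣ) : QQ) = 1 + (i : QQ) * ε := by
    intro i
    induction i with
    | zero => simp
    | succ i ih =>
      rw [zpow_add_one, Units.val_mul, ih, hU]
      push_cast
      linear_combination (i : QQ) * hεε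
    | pred i ih =>
      have h1 : (1 + ε) * (1 - ε) = 1 := by linear_combination -hεε
      have h2 : ((Units.map q.toMonoidHom S.U)⁻¹ : QQˣ) = ((Units.mkOfMulEqOne _ _ h1)⁻¹ : QQˣ) := by
        congr 1; exact Units.ext hU
      rw [zpow_sub_one, Units.val_mul, ih, h2]
      change (_ : QQ) * (1 - ε) = _
      push_cast
      linear_combination (i : QQ) * hεε
  have hrel : (n : QQ) * ε + q (X ^ n) = 0 := by
    have h := congrArg q S.hun
    rw [map_mul, map_pow, hqu, map_one, map_add, map_one] at h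
    have hn' := hzp n
    rw [zpow_natCast, Units.val_pow_eq_pow_val, hU, Int.cast_natCast] at hn'
    rw [hn'] at h
    have h3 : ε * q (X ^ n) = 0 := by
      rw [← map_mul, show X ^ n * d * X ^ n = X ^ (n + n) * d by ring, map_mul,
        hq0 _ (by have := S.npos; omega), zero_mul]
    linear_combination h - (n : QQ) * h3
  have hεw : ε * q w = ε * q (C (constantCoeff w)) := by
    obtain ⟨w₁, hw₁⟩ : X ∣ w - C (constantCoeff w) := X_dvd_iff.2 (by simp)
    rw [← sub_eq_zero, ← mul_sub, ← map_sub, hw₁, ← map_mul,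
      show X ^ n * d * (X * w₁) = X ^ (n + 1) * (d * w₁) by ring, map_mul, hq0 _ le_rfl, zero_mul]
  have hσw : q (S.σ w) = q w :=
    (Ideal.Quotient.mk_eq_mk_iff_sub_mem _ _).2 (Ideal.mem_span_singleton.2 (S.σ_sub_dvd (n + 1) le_rfl w))
  have hTw : q (S.T b w - w) = (b : QQ) * ε * q w := by
    rw [map_sub, T_apply, map_mul, hσw,
      show q ((S.U ^ b : k⟦X⟧ˣ) : k⟦X⟧) = 1 + (b : QQ) * ε from
        (congrArg Units.val (map_zpow (Units.map q.toMonoidHom) S.U b)).trans (hzp b)]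
    ring
  have key : q ((n : k⟦X⟧) * (S.T b w - w) + (b : k⟦X⟧) * (X ^ n * C (constantCoeff w))) = 0 := by
    simp only [map_add, map_mul, map_natCast, map_intCast, hTw]
    linear_combination (b : QQ) * (n : QQ) * hεw + (b : QQ) * q (C (constantCoeff w)) * hrel
  rw [Ideal.Quotient.eq_zero_iff_mem, Ideal.mem_span_singleton, X_pow_dvd_iff] at key
  have := key n (by omega)
  rw [map_add, ← map_natCast (C : k →+* k⟦X⟧), ← map_intCast (C : k →+* k⟦X⟧), coeff_C_mul, coeff_C_mul,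
    coeff_X_pow_mul', if_pos le_rfl, Nat.sub_self, coeff_zero_eq_constantCoeff_apply, constantCoeff_C] at this
  exact this

theorem pow_left_inj {A B : k⟦X⟧} (hA : constantCoeff A = 1) (hB : constantCoeff B = 1) (h : A ^ n = B ^ n) :
    A = B := by
  rw [← sub_eq_zero] at h ⊢
  rw [← geom_sum₂_mul A B n, mul_eq_zero] at h
  refine h.resolve_left fun h0 => S.nk ?_
  simpa [hA, hB] using congrArg constantCoeff h0

variable [IsAlgClosed k]

theorem exists_invariant :
    ∃ V : k⟦X⟧ˣ, constantCoeff (V : k⟦X⟧) = 1 ∧ X ^ (n * (p - 1)) ∣ (V : k⟦X⟧) - 1 ∧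
      S.σ V * u ^ p = V := by
  haveI := S.char
  haveI : Fact p.Prime := ⟨S.prime⟩
  haveI : CharP k⟦X⟧ p := charP_of_injective_ringHom C_injective p
  obtain ⟨z, hz⟩ := IsAlgClosed.exists_pow_nat_eq (-1 : k) S.npos
  have hp1 : p - 1 ≠ 0 := by have := S.prime.two_le; omega
  have hn0 : n ≠ 0 := S.npos.ne'
  have hs' : HasSubst (C z * X ^ (p - 1)) := HasSubst.of_constantCoeff_zero' (by simp [hp1])
  let τ : k⟦X⟧ →ₐ[k] k⟦X⟧ := substAlgHom hs'
  have hτX : τ X = C z * X ^ (p - 1) := by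
    change substAlgHom hs' X = _
    rw [coe_substAlgHom hs', subst_X hs']
  let Y := (X : k⟦X⟧) ^ n
  let v := τ u
  have hvn : v ^ n * (1 - Y ^ (p - 1)) = 1 := by
    have h := congrArg τ S.hun
    simp only [map_mul, map_pow, map_add, map_one, hτX] at h
    refine Eq.trans ?_ h
    congr 1
    rw [mul_pow, ← map_pow, hz, map_neg, map_one, ← pow_mul, ← pow_mul, mul_comm (p - 1)]
    ring
  obtain ⟨w, hw⟩ := S.u_sub_one_dvd
  have hv1 : Y ^ (p - 1) ∣ v - 1 := by
    refine ⟨C (z ^ n) * τ w, ?_⟩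
    change τ u - 1 = _
    rw [← map_one τ, ← map_sub, hw, map_mul, map_pow, hτX, mul_pow, ← map_pow]
    simp only [Y, ← pow_mul, mul_comm (p - 1)]
    ring
  have hvc : constantCoeff v = 1 := by
    obtain ⟨q, hq⟩ := hv1
    have := congrArg constantCoeff hq
    simpa [Y, hn0, hp1, sub_eq_zero] using this
  have hσv : S.σ v * u ^ p = v := by
    have hσc : constantCoeff (S.σ v) = 1 := by
      obtain ⟨q, hq⟩ := hv1
      have := congrArg (constantCoeff ∘ S.σ) hq
      simp only [Function.comp, map_sub, map_one, map_mul, map_pow, Y, S.σ_X] at this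
      simpa [hn0, hp1, sub_eq_zero] using this
    refine S.pow_left_inj (by simp [hσc, S.hu1]) hvc ?_
    have h := congrArg S.σ hvn
    rw [map_mul, map_pow, map_sub, map_one, map_pow, show S.σ Y = Y * u ^ n by simp [Y, S.σ_X, mul_pow]] at h
    have key : u ^ (n * p) * (1 - Y ^ (p - 1)) = 1 - (Y * u ^ n) ^ (p - 1) := by
      have hT : ((1 : k⟦X⟧) + Y) ^ p = 1 + Y ^ p := by rw [add_pow_char, one_pow]
      have hun' : u ^ n * (1 + Y) = 1 := S.hun
      have hp' : p = (p - 1) + 1 := by omega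
      have hne : (1 + Y) ≠ 0 := right_ne_zero_of_mul (hun'.symm ▸ one_ne_zero)
      refine mul_right_cancel₀ (pow_ne_zero p hne) ?_
      rw [pow_mul, mul_right_comm, ← mul_pow, hun', one_pow, one_mul, sub_mul, one_mul, hT, mul_pow,
        mul_assoc, show (u ^ n) ^ (p - 1) * (1 + Y ^ p) = 1 + Y by
          rw [← hT]; conv_lhs => arg 2; rw [hp', pow_succ]
          rw [← mul_assoc, ← mul_pow, hun', one_pow, one_mul]]
      have hY : Y ^ p = Y ^ (p - 1) * Y := by rw [← pow_succ, ← hp']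
      rw [hY]; ring
    refine mul_right_cancel₀ (right_ne_zero_of_mul (hvn.symm ▸ one_ne_zero)) ?_
    rw [hvn, mul_pow, ← pow_mul, mul_comm p n, mul_assoc, key, h]
  exact ⟨(isUnit_iff_constantCoeff.2 (by rw [hvc]; exact isUnit_one) : IsUnit v).unit, by simpa using hvc,
    by simpa [Y, ← pow_mul] using hv1, by simpa using hσv⟩

omit [IsAlgClosed k]

/-- `t^{-m} (u^{a-m} - 1)`, the class of `t^{a-m}` -/
def c (a : ℤ) (m : ℕ) : k⟦X⟧ := PowerSeries.mk fun i => coeff (i + m) (((S.U ^ (a - m) : k⟦X⟧ˣ) : k⟦X⟧) - 1)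

theorem c_spec (a : ℤ) {m : ℕ} (hm : m ≤ n) : X ^ m * S.c a m = ((S.U ^ (a - m) : k⟦X⟧ˣ) : k⟦X⟧) - 1 := by
  obtain ⟨d, hd⟩ := (pow_dvd_pow X hm).trans (S.zpow_sub_one_dvd (a - m))
  rw [hd]
  congr 1
  ext i
  rw [c, coeff_mk, hd, coeff_X_pow_mul]

theorem c_spec_T (a : ℤ) {m : ℕ} (hm : m ≤ n) : X ^ m * S.c a m = S.T (a - m) 1 - 1 := by
  rw [c_spec S a hm, T_apply, map_one, mul_one]

theorem T_pow_Xpow (b : ℤ) (j l : ℕ) (h : k⟦X⟧) :
    ((S.T b) ^ l) (X ^ j * h) = X ^ j * ((S.T (b + j)) ^ l) h := by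
  induction l with
  | zero => simp
  | succ l ih => simp only [pow_succ', Module.End.mul_apply, ih, T_Xpow]

theorem T_pow_mul (b c : ℤ) (x y : k⟦X⟧) (l : ℕ) :
    ((S.T (b + c)) ^ l) (x * y) = ((S.T b) ^ l) x * ((S.T c) ^ l) y := by
  induction l with
  | zero => simp
  | succ l ih => simp only [pow_succ', Module.End.mul_apply, ih, T_mul]

theorem sum_c (a : ℤ) (hTp : (S.T a) ^ p = 1) {m : ℕ} (hm : m ≤ n) :
    ∑ i ∈ Finset.range p, ((S.T a) ^ i) (S.c a m) = 0 := by
  have hX : X ^ m * ∑ i ∈ Finset.range p, ((S.T a) ^ i) (S.c a m) = 0 := by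
    have e : ∀ i, X ^ m * ((S.T a) ^ i) (S.c a m) = ((S.T (a - m)) ^ (i + 1)) 1 - ((S.T (a - m)) ^ i) 1 := fun i => by
      have h := T_pow_Xpow S (a - m) m i (S.c a m)
      rw [sub_add_cancel, c_spec_T S a hm, map_sub] at h
      rw [← h, pow_succ, Module.End.mul_apply]
    rw [Finset.mul_sum, Finset.sum_congr rfl fun i _ => e i, Finset.sum_range_sub (fun i => ((S.T (a - m)) ^ i) 1),
      pow_zero, Module.End.one_apply]
    have h1 : ((S.T (a - m)) ^ p) (X ^ m) = X ^ m := by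
      have h := T_pow_Xpow S (a - m) m p 1
      rw [mul_one, sub_add_cancel, hTp, Module.End.one_apply, mul_one] at h
      exact h
    have h2 : ∀ y, ((S.T 0) ^ p) y = y := fun y => by
      have h := T_pow_mul S a 0 1 y p
      rw [add_zero, one_mul, hTp, Module.End.one_apply, Module.End.one_apply, one_mul] at h
      exact h.symm
    have h3 := T_pow_mul S (a - m) 0 1 (X ^ m) p
    rw [add_zero, one_mul, h1, h2] at h3
    rw [sub_eq_zero]
    exact (mul_left_eq_self₀.1 h3.symm).resolve_right (pow_ne_zero _ X_ne_zero)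
  exact (mul_eq_zero.1 hX).resolve_left (pow_ne_zero _ X_ne_zero)

/-- the index set of the basis -/
def idx (_ : Setup p n u) (a : ℤ) : Finset ℕ := (Finset.Icc 1 n).filter (fun m : ℕ => ¬ (p : ℤ) ∣ a - (m : ℤ))

/-- the cocycle values of the basis -/
def L (a : ℤ) : (S.idx a → k) →ₗ[k] k⟦X⟧ := Fintype.linearCombination k (fun m : S.idx a => S.c a m)

theorem idx_le {a : ℤ} (m : S.idx a) : (m : ℕ) ≤ n :=
  (Finset.mem_Icc.1 (Finset.mem_filter.1 m.2).1).2

theorem sum_pow_range : ∑ l ∈ Finset.range p, (1 + (l : k⟦X⟧) * X ^ n) ^ (p - 1) = -((X ^ n) ^ (p - 1)) := by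
  classical
  haveI := S.char
  haveI : Fact p.Prime := ⟨S.prime⟩
  haveI : CharP k⟦X⟧ p := charP_of_injective_ringHom C_injective p
  let φ : ZMod p →+* k⟦X⟧ := ZMod.castHom dvd_rfl _
  have e : ∑ l ∈ Finset.range p, (1 + (l : k⟦X⟧) * X ^ n) ^ (p - 1) = ∑ x : ZMod p, (1 + φ x * X ^ n) ^ (p - 1) :=
    Finset.sum_nbij' (fun l => (l : ZMod p)) ZMod.val (fun _ _ => Finset.mem_univ _)
      (fun x _ => Finset.mem_range.2 x.val_lt) (fun l hl => ZMod.val_natCast_of_lt (Finset.mem_range.1 hl))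
      (fun x _ => ZMod.natCast_zmod_val x) (fun l _ => by rw [map_natCast])
  rw [e]
  have hexp : ∀ x : ZMod p, (1 + φ x * X ^ n) ^ (p - 1) =
      ∑ j ∈ Finset.range (p - 1 + 1), φ (x ^ j) * ((X ^ n) ^ j * ((p - 1).choose j : k⟦X⟧)) := fun x => by
    rw [add_comm, add_pow]
    refine Finset.sum_congr rfl fun j _ => ?_
    rw [one_pow, mul_pow, map_pow]; ring
  rw [Finset.sum_congr rfl fun x _ => hexp x, Finset.sum_comm, Finset.sum_range_succ,
    Finset.sum_eq_zero fun j hj => by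
      rw [← Finset.sum_mul, ← map_sum, FiniteField.sum_pow_lt_card_sub_one (ZMod p) j
        (by rw [ZMod.card]; exact Finset.mem_range.1 hj), map_zero, zero_mul],
    zero_add, ← Finset.sum_mul, ← map_sum, Nat.choose_self, Nat.cast_one, mul_one]
  have h1 : ∑ x : ZMod p, x ^ (p - 1) = -1 := by
    rw [← Finset.add_sum_erase _ _ (Finset.mem_univ (0 : ZMod p)),
      zero_pow (by have := S.prime.two_le; omega), zero_add,
      Finset.sum_congr rfl fun x hx => ZMod.pow_card_sub_one_eq_one (Finset.ne_of_mem_erase hx),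
      Finset.sum_const, Finset.card_erase_of_mem (Finset.mem_univ _), Finset.card_univ, ZMod.card, nsmul_eq_mul,
      mul_one, Nat.cast_sub S.prime.one_le, ZMod.natCast_self, Nat.cast_one, zero_sub]
  rw [h1, map_neg, map_one, neg_one_mul]

/-- the cocycle becomes trivial after twisting by `t ^ (n (p-1))` -/
theorem exists_twisted_preimage (a : ℤ) (hTp : (S.T a) ^ p = 1) {f : k⟦X⟧}
    (hf : ∑ i ∈ Finset.range p, ((S.T a) ^ i) f = 0) :
    ∃ w, S.T (a - (n * (p - 1) : ℕ)) w - w = X ^ (n * (p - 1)) * f := by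
  haveI := S.char
  haveI : CharP k⟦X⟧ p := charP_of_injective_ringHom C_injective p
  let θ : ℕ → k⟦X⟧ := fun i => (1 + (i : k⟦X⟧) * X ^ n) ^ (p - 1)
  have hθ : ∀ i, S.T (-(n * (p - 1) : ℕ)) (θ i) = θ (i + 1) := fun i => by
    simp only [θ, T_apply, map_pow, map_add, map_mul, map_one, map_natCast, S.σ_X, mul_pow,
      zpow_neg, zpow_natCast, ← inv_pow, Units.val_pow_eq_pow_val, pow_mul]
    rw [← mul_pow]
    congr 1
    have h1 : ((S.U⁻¹ : k⟦X⟧ˣ) : k⟦X⟧) ^ n * u ^ n = 1 := by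
      have h3 := S.U.inv_mul
      rw [U_val] at h3
      rw [← mul_pow, h3, one_pow]
    have h2 := S.hun
    push_cast
    linear_combination (1 + X ^ n + (i : k⟦X⟧) * X ^ n) * h1 - ((S.U⁻¹ : k⟦X⟧ˣ) : k⟦X⟧) ^ n * h2
  let P : ℕ → k⟦X⟧ := fun i => ∑ l ∈ Finset.range (i + 1), ((S.T a) ^ l) f
  have hP : ∀ i, S.T a (P i) = P (i + 1) - f := fun i => by
    simp only [P, map_sum]
    rw [Finset.sum_range_succ' _ (i + 1), pow_zero, Module.End.one_apply, add_sub_cancel_right]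
    exact Finset.sum_congr rfl fun l _ => by rw [pow_succ', Module.End.mul_apply]
  let F : ℕ → k⟦X⟧ := fun i => P i * θ i
  let G : ℕ → k⟦X⟧ := fun i => f * θ i
  have hθp : θ p = θ 0 := by simp [θ]
  have hFp : F p = F 0 := by
    simp only [F, P, hθp]
    rw [Finset.sum_range_succ, hf, zero_add, hTp, Finset.sum_range_one, pow_zero]
  have hsh : ∀ H : ℕ → k⟦X⟧, H p = H 0 → ∑ i ∈ Finset.range p, H (i + 1) = ∑ i ∈ Finset.range p, H i := fun H h => by
    have := (Finset.sum_range_succ' H p).symm.trans (Finset.sum_range_succ H p)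
    rw [h] at this
    exact add_right_cancel this
  refine ⟨∑ i ∈ Finset.range p, F i, ?_⟩
  have hT : ∀ i, S.T (a - (n * (p - 1) : ℕ)) (F i) = F (i + 1) - G (i + 1) := fun i => by
    rw [sub_eq_add_neg, T_mul, hP, hθ, sub_mul]
  rw [map_sum, Finset.sum_congr rfl fun i _ => hT i, Finset.sum_sub_distrib, hsh F hFp,
    hsh G (by simp only [G, hθp]), ← Finset.mul_sum, S.sum_pow_range, pow_mul]
  ring

variable [IsAlgClosed k]

theorem mem_span_of_twisted (a : ℤ) : ∀ (j : ℕ) (w f : k⟦X⟧), S.T (a - j) w - w = X ^ j * f →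
    ∃ v, f - S.L a v ∈ LinearMap.range (S.T a - 1) := by
  classical
  haveI := S.char
  intro j
  induction j with
  | zero =>
    intro w f h
    refine ⟨0, w, ?_⟩
    simpa using h
  | succ j ih =>
    intro w f h
    have step : ∀ w' f', S.T (a - (j + 1 : ℕ)) w' - w' = X ^ (j + 1) * f' → constantCoeff w' = 0 →
        ∃ v, f' - S.L a v ∈ LinearMap.range (S.T a - 1) := fun w' f' h' h0 => by
      obtain ⟨w₁, rfl⟩ := X_dvd_iff.2 h0
      refine ih w₁ f' (mul_left_cancel₀ (X_ne_zero (R := k)) ?_)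
      have e := T_Xpow S (a - (j + 1 : ℕ)) 1 w₁
      rw [pow_one] at e
      rw [mul_sub, show (a - j : ℤ) = a - (j + 1 : ℕ) + (1 : ℕ) by push_cast; ring, ← e, h']
      ring
    by_cases hd : (p : ℤ) ∣ a - (j + 1 : ℕ)
    · obtain ⟨V, hVc, -, hV⟩ := S.exists_invariant
      obtain ⟨e, he⟩ := hd
      have hW : S.T (a - (j + 1 : ℕ)) ((V ^ e : k⟦X⟧ˣ) : k⟦X⟧) = ((V ^ e : k⟦X⟧ˣ) : k⟦X⟧) := by
        have h1 : Units.map S.σ.toRingHom.toMonoidHom V * S.U ^ (p : ℤ) = V :=
          Units.ext (by simpa [U_val] using hV)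
        have h2 : Units.map S.σ.toRingHom.toMonoidHom (V ^ e) * S.U ^ (a - (j + 1 : ℕ)) = V ^ e := by
          rw [map_zpow, he, zpow_mul, ← mul_zpow, h1]
        rw [T_apply, mul_comm]
        exact congrArg Units.val h2
      have hWc : constantCoeff ((V ^ e : k⟦X⟧ˣ) : k⟦X⟧) = 1 := by
        have h1 : Units.map (constantCoeff (R := k)).toMonoidHom V = 1 := Units.ext (by simpa using hVc)
        exact congrArg Units.val
          (show Units.map (constantCoeff (R := k)).toMonoidHom (V ^ e) = 1 by rw [map_zpow, h1, one_zpow])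
      refine step (w - constantCoeff w • ((V ^ e : k⟦X⟧ˣ) : k⟦X⟧)) f ?_ ?_
      · rw [map_sub, map_smul, hW]; linear_combination h
      · rw [map_sub, smul_eq_C_mul, map_mul, constantCoeff_C, hWc, mul_one, sub_self]
    · by_cases hj : j + 1 ≤ n
      · have hmem : j + 1 ∈ S.idx a := Finset.mem_filter.2 ⟨Finset.mem_Icc.2 ⟨by omega, hj⟩, hd⟩
        have hc := S.c_spec_T a hj
        obtain ⟨v, hv⟩ := step (w - C (constantCoeff w)) (f - constantCoeff w • S.c a (j + 1)) (by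
          rw [map_sub, show C (constantCoeff w) = constantCoeff w • (1 : k⟦X⟧) by rw [smul_eq_C_mul, mul_one],
            map_smul, mul_sub, mul_smul_comm, hc, ← h, smul_sub]
          abel) (by simp)
        refine ⟨v + Pi.single ⟨j + 1, hmem⟩ (constantCoeff w), ?_⟩
        have e : S.L a (Pi.single ⟨j + 1, hmem⟩ (constantCoeff w)) = constantCoeff w • S.c a (j + 1) :=
          Fintype.linearCombination_apply_single k (fun m : S.idx a => S.c a m) ⟨j + 1, hmem⟩ (constantCoeff w)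
        rw [map_add, e, sub_add_eq_sub_sub, sub_right_comm]
        exact hv
      · refine step w f h ?_
        have h1 := S.coeff_n_T_sub (a - (j + 1 : ℕ)) w
        rw [h, coeff_X_pow_mul', if_neg (by omega), mul_zero, zero_add] at h1
        exact (mul_eq_zero.1 h1).resolve_left fun h0 => hd ((CharP.intCast_eq_zero_iff k p _).1 h0)

theorem spans (a : ℤ) (hTp : (S.T a) ^ p = 1) {f : k⟦X⟧} (hf : ∑ i ∈ Finset.range p, ((S.T a) ^ i) f = 0) :
    ∃ v, f - S.L a v ∈ LinearMap.range (S.T a - 1) := by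
  obtain ⟨w, hw⟩ := S.exists_twisted_preimage a hTp hf
  exact S.mem_span_of_twisted a (n * (p - 1)) w f hw

omit [IsAlgClosed k]

theorem card_dvd (a : ℤ) (hp : 0 < (p : ℤ)) : ∀ N : ℕ,
    (((Finset.Icc 1 N).filter fun m : ℕ => (p : ℤ) ∣ a - m).card : ℤ) = (a - 1) / p - (a - 1 - N) / p := by
  intro N
  induction N with
  | zero => simp
  | succ N ih =>
    rw [show Finset.Icc 1 (N + 1) = insert (N + 1) (Finset.Icc 1 N) by ext; simp; omega, Finset.filter_insert]
    have key : ((a - 1 - N) / p : ℤ) - (a - 1 - (N + 1 : ℕ)) / p = if (p : ℤ) ∣ a - (N + 1 : ℕ) then 1 else 0 := by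
      have e1 := Int.emod_add_mul_ediv (a - 1 - N) p
      have e2 := Int.emod_add_mul_ediv (a - 1 - (N + 1 : ℕ)) p
      have h1 := Int.emod_nonneg (a - 1 - N) hp.ne'
      have h2 := Int.emod_lt_of_pos (a - 1 - N) hp
      have h3 := Int.emod_nonneg (a - 1 - (N + 1 : ℕ)) hp.ne'
      have h4 := Int.emod_lt_of_pos (a - 1 - (N + 1 : ℕ)) hp
      push_cast at *
      set q1 := (a - 1 - (N : ℤ)) / p
      set q2 := (a - 1 - ((N : ℤ) + 1)) / p
      set r1 := (a - 1 - (N : ℤ)) % p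
      set r2 := (a - 1 - ((N : ℤ) + 1)) % p
      have h5 : (p : ℤ) * (q1 - q2) = 1 + r2 - r1 := by linear_combination e1 - e2
      have hq0 : 0 ≤ q1 - q2 := by
        by_contra hc
        have : (p : ℤ) * (q1 - q2) ≤ (p : ℤ) * (-1) := mul_le_mul_of_nonneg_left (by omega) hp.le
        omega
      have hq1 : q1 - q2 ≤ 1 := by
        by_contra hc
        have : (p : ℤ) * 2 ≤ (p : ℤ) * (q1 - q2) := mul_le_mul_of_nonneg_left (by omega) hp.le
        omega
      split_ifs with hd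
      · obtain ⟨e, he⟩ := hd
        by_contra hne
        have h0 : q1 - q2 = 0 := by omega
        rw [h0, mul_zero] at h5
        have hr : r1 = 0 := by
          have hdv : (p : ℤ) ∣ r1 := ⟨e - q1, by linear_combination e1 + he⟩
          exact Int.eq_zero_of_dvd_of_nonneg_of_lt h1 h2 hdv
        omega
      · by_contra hne
        have h0 : q1 - q2 = 1 := by omega
        rw [h0, mul_one] at h5
        have hr : r1 = 0 := by omega
        exact hd ⟨q1, by linear_combination -e1 + hr⟩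
    split_ifs with hd
    · rw [Finset.card_insert_of_notMem (by simp), Nat.cast_add, ih]
      rw [if_pos hd] at key
      push_cast at key ⊢
      linarith
    · rw [ih]
      rw [if_neg hd] at key
      linarith

theorem card_idx (a : ℤ) : ((S.idx a).card : ℤ) = n - (a - 1) / (p : ℤ) + (a - 1 - n) / (p : ℤ) := by
  have h := Finset.card_filter_add_card_filter_not (s := Finset.Icc 1 n) (fun m : ℕ => (p : ℤ) ∣ a - m)
  have h' := card_dvd S a (by exact_mod_cast S.prime.pos) n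
  rw [Nat.card_Icc] at h
  have : (((Finset.Icc 1 n).filter fun m : ℕ => (p : ℤ) ∣ a - m).card : ℤ) + (S.idx a).card = n := by
    rw [← Nat.cast_add]; exact_mod_cast h.trans (by omega)
  linarith

theorem rho_eq {G : Type u} [Group G] (g : G) (ρ : Representation k G k⟦X⟧) (a : ℤ)
    (hρ : ∀ h, ρ g h = ((S.U ^ a : k⟦X⟧ˣ) : k⟦X⟧) * PowerSeries.subst (X * u) h) : ρ g = S.T a :=
  LinearMap.ext fun h => by rw [hρ, T_apply, σ_eq]

theorem T_pow_card {G : Type u} [Group G] (g : G) (ρ : Representation k G k⟦X⟧) (a : ℤ)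
    (hρ : ρ g = S.T a) (hG : orderOf g = p) : (S.T a) ^ p = 1 := by
  rw [← hρ, ← map_pow, ← hG, pow_orderOf_eq_one, map_one]

theorem S_eq {G : Type u} [Group G] (g : G) (ρ : Representation k G k⟦X⟧) (a : ℤ)
    (hρ : ρ g = S.T a) (hG : orderOf g = p) (x : k⟦X⟧) :
    CyclicH1.S ρ g (orderOf g) x = ∑ i ∈ Finset.range p, ((S.T a) ^ i) x := by
  rw [hG, CyclicH1.S, LinearMap.sum_apply, hρ]

theorem S_L {G : Type u} [Group G] (g : G) (ρ : Representation k G k⟦X⟧) (a : ℤ)
    (hρ : ρ g = S.T a) (hG : orderOf g = p) (v : S.idx a → k) :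
    CyclicH1.S ρ g (orderOf g) (S.L a v) = 0 := by
  rw [L, Fintype.linearCombination_apply, map_sum]
  refine Finset.sum_eq_zero fun m _ => ?_
  rw [map_smul, S.S_eq g ρ a hρ hG, S.sum_c a (S.T_pow_card g ρ a hρ hG) (S.idx_le m), smul_zero]

end Setup

end Groth.Agent.ASCover.Local
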